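import Groth.Agent.Lib.FEt21.Degree
import Groth.Agent.Lib.FinCov.Split
import Groth.Agent.Lib.ProjFormula.Iso
import Groth.Agent.Lib.Cohom.Compare
import Groth.Agent.Lib.Euler.Basic
import Groth.Agent.Lib.Euler.Coh
import Groth.Agent.Lib.FittSheaf.Pullback
import Groth.Agent.Lib.InvExt.FiniteFibre

/-!
# Cohomology injects into that of the pullback along a finite locally free map of invertible degree
-/

set_option autoImplicit false
set_option linter.all false
set_option backward.isDefEq.respectTransparency false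

universe u

open CategoryTheory CategoryTheory.Limits AlgebraicGeometry Opposite TopologicalSpace

noncomputable section

namespace GrothLib.SplitPull

variable {X Y : Scheme.{u}} (f : X ⟶ Y) [IsFinite f] [Flat f] [LocallyOfFinitePresentation f]

/-- The structure sheaf is a direct summand of its direct image. -/
theorem exists_retract {d : ℕ} (hd : ∀ y, f.finrank y = d) (hu : IsUnit ((d : Γ(Y, ⊤)))) :
    ∃ (s : Coh.structureModule Y ⟶ (Scheme.Modules.pushforward f).obj (Coh.structureModule X))
      (r : (Scheme.Modules.pushforward f).obj (Coh.structureModule X) ⟶ Coh.structureModule Y),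
      s ≫ r = 𝟙 _ := by
  let A := _root_.RelSpec.QCAlg.directImage f
  letI := A.moduleSect
  let i : A.toModule ≅ (Scheme.Modules.pushforward f).obj (Coh.structureModule X) :=
    (SheafOfModules.fullyFaithfulForget Y.ringCatSheaf).preimageIso
      (PresheafOfModules.isoMk (fun U => Iso.refl _) (fun U V g => rfl))
  have hA : FlatMod.IsFinLocFreeOfRank d A.toModule := by
    intro y
    obtain ⟨U, hy, ⟨e⟩⟩ := FEt21.isFinLocFreeOfRank_of_finrank f d hd y
    exact ⟨U, hy, ⟨(Scheme.Modules.restrictFunctor U.ι).mapIso i ≪≫ e⟩⟩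
  have hA' := FinCov.isFinLocFree_of_rank hA
  haveI := FinCov.isIso_nsmul_id hu
  refine ⟨FinCov.strMod A ≫ i.hom, i.inv ≫ FinCov.traceHom A hA' ≫ CategoryTheory.inv (d • 𝟙 _), ?_⟩
  simp only [Category.assoc, Iso.hom_inv_id_assoc]
  rw [← Category.assoc, FinCov.strMod_comp_trace A hA (FinCov.isTrace_traceHom A hA'), IsIso.hom_inv_id]

/-- **Cohomology injects into the cohomology of the pullback.** -/
theorem subsingleton_HH {d : ℕ} (hd : ∀ y, f.finrank y = d) (hu : IsUnit ((d : Γ(Y, ⊤))))
    (L : Y.Modules) (hL : PicF.IsInvertible L) (n : ℕ)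
    (h : Subsingleton (Coh.HH X ((Scheme.Modules.pullback f).obj L) n)) : Subsingleton (Coh.HH Y L n) := by
  obtain ⟨s, r, hsr⟩ := exists_retract f hd hu
  haveI : L.IsQuasicoherent := InvExt.isQuasicoherent_of_isInvertible hL
  haveI : ((Scheme.Modules.pullback f).obj L).IsQuasicoherent := FittSheaf.isQuasicoherent_pullback f L
  haveI := ProjFormula.isIso_projHom f (Euler.isFinLocFree_of_isInvertible hL) (Coh.structureModule X)
  let T := (DCoh.tensorBi (X := Y)).obj L
  let E := (Scheme.Modules.pushforward f).obj ((Scheme.Modules.pullback f).obj L)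
  let eT : T.obj (Coh.structureModule Y) ≅ L :=
    (OX.tensorBraiding.app L).symm.app _ ≪≫ OX.tensorUnitLeftIso L
  let eP : T.obj ((Scheme.Modules.pushforward f).obj (Coh.structureModule X)) ≅ E :=
    asIso (ProjFormula.projHom f L (Coh.structureModule X)) ≪≫ (Scheme.Modules.pushforward f).mapIso
      ((OX.tensorBraiding.app ((Scheme.Modules.pullback f).obj L)).symm.app _ ≪≫ OX.tensorUnitLeftIso _)
  let a : L ⟶ E := eT.inv ≫ T.map s ≫ eP.hom
  let b : E ⟶ L := eP.inv ≫ T.map r ≫ eT.hom
  have hab : a ≫ b = 𝟙 L := by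
    simp only [a, b, Category.assoc, Iso.hom_inv_id_assoc]
    rw [← Functor.map_comp_assoc, hsr, CategoryTheory.Functor.map_id, Category.id_comp, Iso.inv_hom_id]
  obtain ⟨e⟩ := Cohom.nonempty_HH_equiv_pushforward f ((Scheme.Modules.pullback f).obj L) n
  haveI : Subsingleton (Coh.HH Y E n) := e.toEquiv.symm.subsingleton
  refine subsingleton_of_forall_eq 0 fun x => ?_
  have h1 : Sheaf.H.map ((QCoh.toAbFun Y).map b) n (Sheaf.H.map ((QCoh.toAbFun Y).map a) n x) = x := by
    rw [← Sheaf.H.map_comp_apply, ← Functor.map_comp, hab, CategoryTheory.Functor.map_id, Sheaf.H.map_id_apply]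
  rw [← h1, Subsingleton.elim (α := Coh.HH Y E n) (Sheaf.H.map ((QCoh.toAbFun Y).map a) n x) 0]
  exact map_zero _

end GrothLib.SplitPull
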